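import Groth.Agent.ShStab.K847.GLTwist
import Groth.Agent.AbVar.K526.Cut

/-!
# Sections of pure modules of bounded slope (namespace `K627.NodeU`)

`main`: an upper bound, uniform over all infinite fields, for the number of sections of the twists of a pure module
`T` of dimension `g + 1` on `P^n`, of bounded multiplicity and slope, which contains a quotient `T₀` of `O(-ρ)^b` with
the same multiplicity.
-/

set_option autoImplicit false
universe u
open CategoryTheory CategoryTheory.Limits AlgebraicGeometry TopologicalSpace Polynomial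

namespace K627.NodeU

open Groth.Agent Groth.Agent.Fdesc Groth.Agent.Fdesc.LocGen Groth.Agent.Fga.RegSec Groth.Agent.Fga.PicMon ShStab
  K847.StabBasic K847.AssPure K847.CutAlg K847.Cut K847.Lin K847.TwistSS K847.CurveVan Groth.Agent.VarietyB.EulerBinom
  Groth.Agent.FormalA.HHLin K847.Pn K847.GL K847.GLNum K847.HilbBasic StabCat

section num

/-- Summation of the bounds for the hyperplane sections. -/
theorem num (w δ : ℤ → ℕ) (α : ℚ) (hα : 0 ≤ α) (c m : ℕ) (t₀ : ℤ) (h1 : ∀ t, w (t + 1) ≤ w t + δ (t + 1))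
    (h2 : ∀ t, (δ t : ℚ) ≤ α * (((t + c + (m : ℤ)).toNat.choose m : ℕ) : ℚ)) (h3 : ∀ t, t ≤ t₀ → w t = 0)
    (hm : 1 ≤ m ∨ -(c : ℤ) ≤ t₀ + 1) (t : ℤ) :
    (w t : ℚ) ≤ α * (((t + c + ((m + 1 : ℕ) : ℤ)).toNat.choose (m + 1) : ℕ) : ℚ) := by
  have hpos : ∀ t : ℤ, 0 ≤ α * (((t + c + ((m + 1 : ℕ) : ℤ)).toNat.choose (m + 1) : ℕ) : ℚ) := fun t => by positivity
  have key : ∀ j : ℕ, (w (t₀ + j) : ℚ) ≤
      α * (((t₀ + j + c + ((m + 1 : ℕ) : ℤ)).toNat.choose (m + 1) : ℕ) : ℚ) := by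
    intro j
    induction j with
    | zero =>
      rw [h3 (t₀ + ((0 : ℕ) : ℤ)) (by simp), Nat.cast_zero]
      exact hpos _
    | succ j ih =>
      have e : t₀ + ((j + 1 : ℕ) : ℤ) = t₀ + j + 1 := by push_cast; ring
      rw [e]
      have h4 : (w (t₀ + j + 1) : ℚ) ≤ w (t₀ + j) + δ (t₀ + j + 1) := by exact_mod_cast h1 (t₀ + j)
      have h5 := h2 (t₀ + j + 1)
      have h6 : (((t₀ + j + 1 + c + ((m + 1 : ℕ) : ℤ)).toNat.choose (m + 1) : ℕ) : ℚ) =
          (((t₀ + j + c + ((m + 1 : ℕ) : ℤ)).toNat.choose (m + 1) : ℕ) : ℚ) +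
          (((t₀ + j + 1 + c + (m : ℤ)).toNat.choose m : ℕ) : ℚ) := by
        rw [← Nat.cast_add]
        congr 1
        have e1 : t₀ + j + c + ((m + 1 : ℕ) : ℤ) = t₀ + j + 1 + c + (m : ℤ) := by push_cast; ring
        rw [e1]
        rcases lt_or_ge (t₀ + j + 1 + c + (m : ℤ)) 0 with hneg | hnn
        · have hm1 : 1 ≤ m := by
            rcases hm with hm | hm
            · exact hm
            · omega
          have e2 : (t₀ + j + 1 + c + ((m + 1 : ℕ) : ℤ)).toNat = 0 := by omega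
          have e3 : (t₀ + j + 1 + c + (m : ℤ)).toNat = 0 := by omega
          rw [e2, e3]
          obtain ⟨m, rfl⟩ : ∃ m', m = m' + 1 := ⟨m - 1, by omega⟩
          simp
        · have e2 : (t₀ + j + 1 + c + ((m + 1 : ℕ) : ℤ)).toNat = (t₀ + j + 1 + c + (m : ℤ)).toNat + 1 := by omega
          rw [e2, Nat.choose_succ_succ, add_comm]
      rw [h6, mul_add]
      linarith
  rcases le_or_gt t t₀ with h | h
  · rw [h3 t h, Nat.cast_zero]
    exact hpos t
  · have h4 := key (t - t₀).toNat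
    have e : t₀ + (((t - t₀).toNat : ℕ) : ℤ) = t := by omega
    rwa [e] at h4

/-- Strictly growing functions vanish far on the left. -/
theorem eq_zero_of_growth (w : ℤ → ℕ) (h : ∀ t, w (t + 1) ≠ 0 → w t < w (t + 1)) (h' : ∀ t, w t ≤ w (t + 1))
    (t₁ : ℤ) (N : ℕ) (hN : w t₁ ≤ N) (t : ℤ) (ht : t ≤ t₁ - N) : w t = 0 := by
  have key : ∀ j : ℕ, w (t₁ - j) ≤ N - j := by
    intro j
    induction j with
    | zero => simpa using hN
    | succ j ih =>
      have e : t₁ - (j : ℤ) = (t₁ - ((j + 1 : ℕ) : ℤ)) + 1 := by push_cast; ring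
      rw [e] at ih
      by_cases h0 : w (t₁ - ((j + 1 : ℕ) : ℤ) + 1) = 0
      · have := h' (t₁ - ((j + 1 : ℕ) : ℤ))
        omega
      · have := h _ h0
        omega
  have h1 := key (t₁ - t).toNat
  have e : t₁ - (((t₁ - t).toNat : ℕ) : ℤ) = t := by omega
  rw [e] at h1
  omega

end num

section cut

variable (k : Type u) [Field k] {n : ℕ}

/-- `h⁰(F(t))`. -/
noncomputable abbrev h0 (F : (CohB1.ProjSpace n k).Modules) (t : ℤ) : ℕ :=
  Module.finrank k (Coh.HH (CohB1.ProjSpace n k) (tw F t) 0)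

theorem euler_eq_of_HP_add (S : ShortComplex (CohB1.ProjSpace n k).Modules) (hS : S.ShortExact)
    (h1 : Coh.IsCoh S.X₁) (h2 : Coh.IsCoh S.X₂) (h3 : Coh.IsCoh S.X₃) {P₁ P₂ : ℚ[X]} (hP₁ : HP k S.X₁ P₁)
    (hP₂ : HP k S.X₂ P₂) : HP k S.X₃ (P₂ - P₁) := by
  intro t
  have h := euler_obj_add k n hS h1 h2 h3 t
  have h4 : ((Curv2.euler k (CohB1.ProjSpace n k) (tw S.X₂ t) : ℤ) : ℚ) =
      Curv2.euler k (CohB1.ProjSpace n k) (tw S.X₁ t) + Curv2.euler k (CohB1.ProjSpace n k) (tw S.X₃ t) := by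
    exact_mod_cast h
  rw [eval_sub, ← hP₂ t, ← hP₁ t]
  exact (sub_eq_of_eq_add' h4).symm

theorem HP_pred {F : (CohB1.ProjSpace n k).Modules} {P : ℚ[X]} (h : HP k F P) :
    HP k (tw F (-1)) (P.comp (X - C 1)) := by
  have h' := HP_tw k h (-1)
  rwa [Int.cast_neg, Int.cast_one, C_neg, ← sub_eq_add_neg] at h'

theorem tens_tw (F : (CohB1.ProjSpace n k).Modules) : Nonempty (CohB1.tensorMod (O k n 1) (tw F (-1)) ≅ F) := by
  rw [← mc_eq_iff, mc_tensor, mc_tw, mul_left_comm, mc_O_mul, add_neg_cancel, mc_O_zero, mul_one]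

/-- The Hilbert polynomial of a hyperplane section. -/
theorem HP_cut {F : (CohB1.ProjSpace n k).Modules} (hF : Coh.IsCoh F) {P : ℚ[X]} (hP : HP k F P)
    (s : Coh.structureModule (CohB1.ProjSpace n k) ⟶ O k n 1) [Mono (mulS s (tw F (-1)))] :
    HP k (cokernel (mulS s (tw F (-1)))) (P - P.comp (X - C 1)) := by
  have hW : Coh.IsCoh (tw F (-1)) := isCoh_tw hF (-1)
  obtain ⟨e1⟩ := tens_tw k F
  exact euler_eq_of_HP_add k (ShortComplex.mk (mulS s (tw F (-1))) (cokernel.π (mulS s (tw F (-1))))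
    (cokernel.condition _)) (shortExact_cokernel _) hW (isCoh_tens (isAmple_O_one k n).1 hW)
    (isCoh_cokernel_mulS (isAmple_O_one k n).1 s hW) (HP_pred k hP) (HP_congr k e1.symm hP)

/-- `h⁰(F(t + 1)) ≤ h⁰(F(t)) + h⁰(F_H(t + 1))`. -/
theorem h0_succ_le {F : (CohB1.ProjSpace n k).Modules} (hF : Coh.IsCoh F)
    (s : Coh.structureModule (CohB1.ProjSpace n k) ⟶ O k n 1) [Mono (mulS s (tw F (-1)))] (t : ℤ) :
    h0 k F (t + 1) ≤ h0 k F t + h0 k (cokernel (mulS s (tw F (-1)))) (t + 1) := by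
  have hW : Coh.IsCoh (tw F (-1)) := isCoh_tw hF (-1)
  let S : ShortComplex (CohB1.ProjSpace n k).Modules := ShortComplex.mk (mulS s (tw F (-1)))
    (cokernel.π (mulS s (tw F (-1)))) (cokernel.condition _)
  have hS : S.ShortExact := shortExact_cokernel _
  have he : ∀ t : ℤ, Nonempty (tw S.X₂ t ≅ tw S.X₁ (t + 1)) := by
    intro t
    change Nonempty (tw (CohB1.tensorMod (O k n 1) (tw F (-1))) t ≅ tw (tw F (-1)) (t + 1))
    rw [← mc_eq_iff, mc_tw, mc_tensor, mc_tw (tw F (-1)) (t + 1), add_comm t 1, ← mc_O_mul k n 1 t,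
      mul_comm (mc (O k n 1)) (mc (tw F (-1))), mul_assoc]
  have h1 := finrank_succ_le k S hS hW (isCoh_tens (isAmple_O_one k n).1 hW)
    (isCoh_cokernel_mulS (isAmple_O_one k n).1 s hW) he (t + 1)
  have e : ∀ a : ℤ, Module.finrank k (Coh.HH (CohB1.ProjSpace n k) (tw (tw F (-1)) (a + 1)) 0) = h0 k F a := by
    intro a
    obtain ⟨e⟩ := tw_tw F (-1) (a + 1)
    have e2 : -1 + (a + 1) = a := by ring
    rw [(hmapEquiv k (CohB1.ProjSpace n k) e 0).finrank_eq, e2]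
  rw [e (t + 1), e t] at h1
  exact h1

/-- **The generic hyperplane section** of a pair `T₀ ⊆ T`. -/
theorem exists_cut [Infinite k] {E₀ T₀ T : (CohB1.ProjSpace n k).Modules} (q : E₀ ⟶ T₀) (j : T₀ ⟶ T)
    (hT₀ : Coh.IsCoh T₀) (hT : Coh.IsCoh T) [Epi q] [Mono j] {e : ℕ} (hp : IsPure (CohB1.ProjSpace n k) T (e + 1))
    {P₀ P : ℚ[X]} (hP₀ : HP k T₀ P₀) (hP : HP k T P) :
    ∃ (D₀ D : (CohB1.ProjSpace n k).Modules) (q' : E₀ ⟶ D₀) (j' : D₀ ⟶ D), Coh.IsCoh D₀ ∧ Coh.IsCoh D ∧ Epi q' ∧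
      Mono j' ∧ IsPure (CohB1.ProjSpace n k) D e ∧ HP k D₀ (P₀ - P₀.comp (X - C 1)) ∧
      HP k D (P - P.comp (X - C 1)) ∧ ∀ t : ℤ, h0 k T (t + 1) ≤ h0 k T t + h0 k D (t + 1) := by
  have hNoeth := Fga.IntAdd.isNoetherian k (CohB1.ProjSpace n k)
  have hinv := (isAmple_O_one k n).1
  have hC : Coh.IsCoh (cokernel j) := isCoh_cokernel' k j hT₀ hT
  have hW : Coh.IsCoh (tw T (-1)) := isCoh_tw hT (-1)
  have hWC : Coh.IsCoh (tw (cokernel j) (-1)) := isCoh_tw hC (-1)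
  have hW₀ : Coh.IsCoh (tw T₀ (-1)) := isCoh_tw hT₀ (-1)
  obtain ⟨B, hB, hcut⟩ := exists_bad k (CohB1.ProjSpace n k) (isAmple_O_one k n) hW (isPure_tw hp (-1))
  obtain ⟨s, hs⟩ := exists_section_avoiding k (Coh.toGlobal ((CohB1.ProjSpace n k) ↘ Spec (CommRingCat.of k)))
    hinv (exists_mem_genLocus k n) ((AssSch.Ass (tw T (-1)) ∪ B) ∪ AssSch.Ass (tw (cokernel j) (-1)))
    (((SubFilt.finite_ass hW).union hB).union (SubFilt.finite_ass hWC))
  have hs1 : AssSch.Ass (tw T (-1)) ∪ B ⊆ CohB1.genLocus _ s := Set.subset_union_left.trans hs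
  have m2 : Mono (mulS s (tw T (-1))) := mono_mulS hinv s hW (Set.subset_union_left.trans hs1)
  have m3 : Mono (mulS s (tw (cokernel j) (-1))) := mono_mulS hinv s hWC (Set.subset_union_right.trans hs)
  have hS := shortExact_twist k n (shortExact_cokernel j) (-1)
  let S : ShortComplex (CohB1.ProjSpace n k).Modules :=
    (ShortComplex.mk j (cokernel.π j) (cokernel.condition j)).map (DCoh.tensorRightMod (O k n (-1)))
  have hS' : S.ShortExact := hS
  have hmf : Mono S.f := hS'.mono_f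
  have m1 : Mono (mulS s (tw T₀ (-1))) := @K526.Cut.mono_mulS_of_mono _ _ s _ _ S.f hmf m2
  have hT' : (S.map (DCoh.tensorBi.obj (O k n 1))).ShortExact := Fga.TwistCoh.shortExact_tensorBi hinv S hS'
  have m3' : Mono (K526.Cut.mulSC s S).τ₃ := m3
  obtain ⟨U, hU, ⟨e1⟩, ⟨e2⟩, -⟩ := K526.Cut.exists_shortExact_cokernel hS' hT' (K526.Cut.mulSC s S)
  have hUf := hU.mono_f
  obtain ⟨e0⟩ := tens_tw k T₀
  refine ⟨cokernel (mulS s (tw T₀ (-1))), cokernel (mulS s (tw T (-1))), q ≫ e0.inv ≫ cokernel.π _,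
    e1.inv ≫ U.f ≫ e2.hom, isCoh_cokernel_mulS hinv s hW₀, isCoh_cokernel_mulS hinv s hW, inferInstance,
    inferInstance, hcut _ hinv s hs1, HP_cut k hT₀ hP₀ s, HP_cut k hT hP s, fun t => h0_succ_le k hT s t⟩

/-- Vanishing of the sections of the twists far on the left. -/
theorem h0_eq_zero [Infinite k] {T : (CohB1.ProjSpace n k).Modules} (hT : Coh.IsCoh T) {e : ℕ}
    (hp : IsPure (CohB1.ProjSpace n k) T (e + 1)) (t₁ : ℤ) (N : ℕ) (hN : h0 k T t₁ ≤ N) (t : ℤ) (ht : t ≤ t₁ - N) :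
    h0 k T t = 0 :=
  eq_zero_of_growth (fun t => h0 k T t) (fun t h => finrank_lt k hT hp t h) (fun t => finrank_le k hT t) t₁ N hN t ht

/-- Higher cohomology of a zero-dimensional module. -/
theorem subsingleton_of_dim {C : (CohB1.ProjSpace n k).Modules} (hC : Coh.IsCoh C)
    (hd : topologicalKrullDim (CohB1.support C) ≤ ((0 : ℕ) : WithBot ℕ∞)) (t : ℤ) (i : ℕ) (hi : 1 ≤ i) :
    Subsingleton (Coh.HH (CohB1.ProjSpace n k) (tw C t) i) := by
  refine S1526.result k (CohB1.ProjSpace n k) _ (isCoh_tw hC t) ?_ i hi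
  have h2 := support_tensor_right (O_inv t) C
  change topologicalKrullDim (CohB1.support (CohB1.tensorMod C (O k n t))) ≤ _
  rw [h2]
  exact hd

end cut

section base

/-- The case of dimension one. -/
theorem base (n b : ℕ) (hb : 1 ≤ b) (ρ : ℤ) (a₀ c₀ : ℚ) : ∃ c₁ : ℕ,
    ∀ (k : Type u) [Field k] [Infinite k] (T₀ T : (CohB1.ProjSpace n k).Modules)
      (q : tw (FlatMod.freeMod (CohB1.ProjSpace n k) b) (-ρ) ⟶ T₀) (j : T₀ ⟶ T),
      Coh.IsCoh T₀ → Coh.IsCoh T → Epi q → Mono j → IsPure (CohB1.ProjSpace n k) T 1 →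
      ∀ P₀ P : ℚ[X], HP k T₀ P₀ → HP k T P → P₀.coeff 1 = P.coeff 1 →
        alpha 1 P ≤ a₀ → alpha 0 P ≤ c₀ → ∀ t : ℤ,
          (h0 k T t : ℚ) ≤ alpha 1 P * (((t + c₁ + ((1 : ℕ) : ℤ)).toNat.choose 1 : ℕ) : ℚ) := by
  obtain ⟨𝒮, h𝒮, hmain⟩ := main.{u} n b hb 1 a₀ (c₀ + |(ρ : ℚ)| * a₀)
  let τ : ℚ[X] → ℤ := fun Q => (exists_reg.{u} n b hb Q).choose
  obtain ⟨M, hM⟩ := (h𝒮.image τ).bddAbove
  have hM' : ∀ Q ∈ 𝒮, τ Q ≤ M := fun Q hQ => hM ⟨Q, hQ, rfl⟩
  obtain ⟨t₁, ht₁⟩ : ∃ t₁ : ℤ, t₁ = max (M + ρ) 0 := ⟨_, rfl⟩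
  refine ⟨⌈a₀ * t₁ + c₀⌉₊, ?_⟩
  intro k _ _ T₀ T q j hT₀ hT hq hj hp P₀ P hP₀ hP hcoeff ha hc
  have hNoeth := Fga.IntAdd.isNoetherian k (CohB1.ProjSpace n k)
  have hp₀ : IsPure _ T₀ 1 := isPure_of_mono j hp
  have hdeg := natDegree_le_of_isPure k hT hp hP
  have hdeg₀ := natDegree_le_of_isPure k hT₀ hp₀ hP₀
  have hcn := coeff_nonneg_of_isPure k hT hp hP
  have ha1 : P.coeff 1 ≤ a₀ := by
    have : alpha 1 P = P.coeff 1 := by simp [alpha]
    rwa [this] at ha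
  have hc1 : P.coeff 0 ≤ c₀ := by
    have : alpha 0 P = P.coeff 0 := by simp [alpha]
    rwa [this] at hc
  -- the cokernel
  have hC : Coh.IsCoh (cokernel j) := isCoh_cokernel' k j hT₀ hT
  have hSj := shortExact_cokernel j
  have hPC : HP k (cokernel j) (P - P₀) := euler_eq_of_HP_add k _ hSj hT₀ hT hC hP₀ hP
  have hPC0 : (P - P₀).natDegree ≤ 0 := by
    rw [natDegree_le_iff_coeff_eq_zero]
    intro N hN
    rcases Nat.lt_or_ge 1 N with h | h
    · rw [coeff_sub, coeff_eq_zero_of_natDegree_lt (by omega), coeff_eq_zero_of_natDegree_lt (by omega), sub_zero]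
    · obtain rfl : N = 1 := by omega
      rw [coeff_sub, hcoeff, sub_self]
  have hdimC : topologicalKrullDim (CohB1.support (cokernel j)) ≤ ((0 : ℕ) : WithBot ℕ∞) := by
    by_cases hz : IsZero (cokernel j)
    · rw [dim_support_isZero hz]; exact bot_le
    · obtain ⟨d, hd⟩ := exists_dim_support_eq k hz
      have h1 := natDegree_eq k (isAmple_O_one k n) hC hd (isHilbPoly_of_HP k hPC)
      have h2 : d = 0 := by omega
      rw [hd, h2]
  have hC0 : 0 ≤ (P - P₀).coeff 0 := by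
    have h1 := alpha_nonneg k (isAmple_O_one k n) hC hdimC (isHilbPoly_of_HP k hPC)
    have : alpha 0 (P - P₀) = (P - P₀).coeff 0 := by simp [alpha]
    rwa [this] at h1
  rw [coeff_sub] at hC0
  -- `T₀(ρ)` is a quotient of `O^b`
  obtain ⟨e⟩ : Nonempty (FlatMod.freeMod (CohB1.ProjSpace n k) b ≅
      tw (tw (FlatMod.freeMod (CohB1.ProjSpace n k) b) (-ρ)) ρ) := by
    rw [← mc_eq_iff, mc_tw, mc_tw, mul_assoc, mc_O_mul, neg_add_cancel, mc_O_zero, mul_one]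
  have hepi : Epi (twm q ρ) := by
    have : (DCoh.tensorRightMod (O k n ρ)).PreservesEpimorphisms := inferInstance
    exact this.preserves q
  have hq' : Epi (e.hom ≫ twm q ρ) := epi_comp _ _
  have hPρ := HP_tw k hP₀ ρ
  have hmem : P₀.comp (X + C (ρ : ℚ)) ∈ 𝒮 := by
    refine hmain k (tw T₀ ρ) (e.hom ≫ twm q ρ) (isCoh_tw hT₀ ρ) hq' (isPure_tw hp₀ ρ) _ hPρ ?_ ?_
    · rw [K847.GLTwist.coeff_comp_top hdeg₀, hcoeff]
      exact ha1
    · intro _
      rw [Nat.sub_self, K847.GLTwist.coeff_comp_pred hdeg₀, hcoeff]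
      have h3 : (ρ : ℚ) * P.coeff 1 ≤ |(ρ : ℚ)| * a₀ :=
        (mul_le_mul_of_nonneg_right (le_abs_self _) hcn).trans (mul_le_mul_of_nonneg_left ha1 (abs_nonneg _))
      simp only [Nat.cast_zero, zero_add, one_mul]
      linarith
  have hreg := (exists_reg.{u} n b hb (P₀.comp (X + C (ρ : ℚ)))).choose_spec k (tw T₀ ρ) (e.hom ≫ twm q ρ)
    (isCoh_tw hT₀ ρ) hq' hPρ
  have hτ : τ (P₀.comp (X + C (ρ : ℚ))) ≤ M := hM' _ hmem
  -- vanishing of the higher cohomology at `t₁`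
  have hv₀ : ∀ i : ℕ, 1 ≤ i → Subsingleton (Coh.HH (CohB1.ProjSpace n k) (tw T₀ t₁) i) := by
    intro i hi
    have h1 : τ (P₀.comp (X + C (ρ : ℚ))) ≤ t₁ - ρ := by
      have := le_max_left (M + ρ) 0
      omega
    have h2 := (hreg (t₁ - ρ) h1).1 i hi
    obtain ⟨e'⟩ := tw_tw T₀ ρ (t₁ - ρ)
    have e'' := hmapEquiv k (CohB1.ProjSpace n k) e' i
    rw [add_sub_cancel] at e''
    exact e''.symm.toEquiv.subsingleton
  have hv : ∀ i : ℕ, 1 ≤ i → Subsingleton (Coh.HH (CohB1.ProjSpace n k) (tw T t₁) i) := by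
    intro i hi
    have hSt := shortExact_twist k n hSj t₁
    exact subsingleton_of_exact _ _ (FormalB.HHLes.exact_map_map k hSt i) (hv₀ i hi)
      (subsingleton_of_dim k hC hdimC t₁ i hi)
  have hχ := Fga.MumReg.euler_large T t₁ hv
  have hlin : ∀ x : ℚ, P.eval x = P.coeff 1 * x + P.coeff 0 := by
    intro x
    conv_lhs => rw [eq_X_add_C_of_natDegree_le_one hdeg]
    simp
  have ht₁0 : (0 : ℤ) ≤ t₁ := by rw [ht₁]; exact le_max_right _ _
  have ht₁q : (0 : ℚ) ≤ (t₁ : ℚ) := by exact_mod_cast ht₁0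
  have hN : h0 k T t₁ ≤ ⌈a₀ * t₁ + c₀⌉₊ := by
    have h1 : (h0 k T t₁ : ℚ) ≤ a₀ * t₁ + c₀ := by
      have h2 := hP t₁
      rw [hχ, hlin] at h2
      have h3 : (h0 k T t₁ : ℚ) = P.coeff 1 * t₁ + P.coeff 0 := by
        rw [← h2]; simp
      rw [h3]
      have h4 := mul_le_mul_of_nonneg_right ha1 ht₁q
      linarith
    exact_mod_cast h1.trans (Nat.le_ceil _)
  have hzero := h0_eq_zero k hT (e := 0) hp t₁ _ hN
  -- the hyperplane section
  obtain ⟨D₀, D, q', j', hD₀, hD, -, -, hpD, -, hPD, hle⟩ := exists_cut k q j hT₀ hT (e := 0) hp hP₀ hP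
  have hdD := dim_le_of_isPure hD hpD
  have hDt : ∀ t : ℤ, (h0 k D t : ℚ) = alpha 1 P := by
    intro t
    have h1 := Fga.MumReg.euler_large D t (fun i hi => subsingleton_of_dim k hD hdD t i hi)
    have h2 := hPD t
    rw [h1, eval_sub, eval_comp, hlin, hlin] at h2
    have h3 : (h0 k D t : ℚ) = P.coeff 1 := by
      have h4 : ((h0 k D t : ℤ) : ℚ) = P.coeff 1 := by
        rw [h2]
        simp only [eval_sub, eval_X, eval_C]
        ring
      exact_mod_cast h4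
    rw [h3]
    simp [alpha]
  have hα0 : 0 ≤ alpha 1 P := by
    have : alpha 1 P = P.coeff 1 := by simp [alpha]
    rwa [this]
  exact num (fun t => h0 k T t) (fun t => h0 k D t) (alpha 1 P) hα0 _ 0 (t₁ - ⌈a₀ * t₁ + c₀⌉₊) hle
    (fun t => by rw [hDt t, Nat.choose_zero_right]; simp) hzero (Or.inr (by omega))

end base

/-- **Node U**: an upper bound for the number of sections of a pure module `T` of dimension `g + 1`, of bounded
multiplicity and slope, containing a quotient `T₀` of `O(-ρ)^b` with the same multiplicity. -/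
theorem main (n b : ℕ) (hb : 1 ≤ b) (ρ : ℤ) (g : ℕ) (a₀ c₀ : ℚ) : ∃ c₁ : ℕ,
    ∀ (k : Type u) [Field k] [Infinite k] (T₀ T : (CohB1.ProjSpace n k).Modules)
      (q : tw (FlatMod.freeMod (CohB1.ProjSpace n k) b) (-ρ) ⟶ T₀) (j : T₀ ⟶ T),
      Coh.IsCoh T₀ → Coh.IsCoh T → Epi q → Mono j → IsPure (CohB1.ProjSpace n k) T (g + 1) →
      ∀ P₀ P : ℚ[X], HP k T₀ P₀ → HP k T P → P₀.coeff (g + 1) = P.coeff (g + 1) →
        alpha (g + 1) P ≤ a₀ → alpha g P ≤ c₀ → ∀ t : ℤ,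
          (h0 k T t : ℚ) ≤ alpha (g + 1) P * (((t + c₁ + ((g + 1 : ℕ) : ℤ)).toNat.choose (g + 1) : ℕ) : ℚ) := by
  induction g with
  | zero => exact base n b hb ρ a₀ c₀
  | succ g ih =>
    obtain ⟨c₁, hc₁⟩ := ih
    refine ⟨c₁, ?_⟩
    intro k _ _ T₀ T q j hT₀ hT hq hj hp P₀ P hP₀ hP hcoeff ha hc
    have hp₀ : IsPure _ T₀ (g + 1 + 1) := isPure_of_mono j hp
    have hdeg := natDegree_le_of_isPure k hT hp hP
    have hdeg₀ := natDegree_le_of_isPure k hT₀ hp₀ hP₀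
    have hcn := coeff_nonneg_of_isPure k hT hp hP
    obtain ⟨D₀, D, q', j', hD₀, hD, hq', hj', hpD, hPD₀, hPD, hle⟩ := exists_cut k q j hT₀ hT (e := g + 1) hp hP₀ hP
    have hα : alpha (g + 1) (P - P.comp (X - C 1)) = alpha (g + 1 + 1) P := by
      unfold alpha
      rw [coeff_diff hdeg, Nat.factorial_succ (g + 1)]
      push_cast
      ring
    have hαg : alpha g (P - P.comp (X - C 1)) ≤ alpha (g + 1) P := by
      unfold alpha
      rw [Nat.factorial_succ g]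
      have h1 := coeff_diff_pred (e := g) hdeg hcn
      have h2 := mul_le_mul_of_nonneg_left h1 (Nat.cast_nonneg (α := ℚ) g.factorial)
      refine h2.trans (le_of_eq ?_)
      push_cast
      ring
    have hb' := hc₁ k D₀ D q' j' hD₀ hD hq' hj' hpD _ _ hPD₀ hPD
      (by rw [coeff_diff hdeg, coeff_diff hdeg₀, hcoeff]) (by rw [hα]; exact ha) (hαg.trans hc)
    rw [hα] at hb'
    have hα0 : 0 ≤ alpha (g + 1 + 1) P := by
      unfold alpha
      positivity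
    -- vanishing far on the left
    obtain ⟨N, hN⟩ : ∃ N : ℕ, N = h0 k T 0 := ⟨_, rfl⟩
    have hzero := h0_eq_zero k hT (e := g + 1) hp 0 N hN.ge
    exact num (fun t => h0 k T t) (fun t => h0 k D t) (alpha (g + 1 + 1) P) hα0 c₁ (g + 1) (0 - N) hle hb' hzero
      (Or.inl (by omega))

end K627.NodeU
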