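import Groth.Agent.ShStab.K781.Base2
import Groth.Agent.ShStab.K627.NodeU
import Mathlib.CategoryTheory.Abelian.DiagramLemmas.KernelCokernelComp

/-!
# Filtrations whose pieces embed in twists of the last piece (namespace `K627.NodeFilt`)

`main : K781.Base.StmtFilt`; `stmtU : K781.Base.StmtU`.
-/

set_option autoImplicit false
universe u
open CategoryTheory CategoryTheory.Limits AlgebraicGeometry TopologicalSpace Polynomial

namespace K627.NodeFilt

open Groth.Agent Groth.Agent.Fdesc Groth.Agent.Fdesc.LocGen Groth.Agent.Fga.RegSec Groth.Agent.Fga.PicMon ShStab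
  K847.StabBasic K847.AssPure K847.CutAlg K847.Cut K847.Lin K847.TwistSS K847.CurveVan Groth.Agent.VarietyB.EulerBinom
  Groth.Agent.FormalA.HHLin K847.Pn K847.GL K847.GLNum K847.HilbBasic StabCat K781.Base

theorem stmtU : K781.Base.StmtU.{u} := fun n b hb ρ g a₀ c₀ => K627.NodeU.main n b hb ρ g a₀ c₀

section abs

variable {C : Type*} [Category C] [Abelian C]

/-- `0 → coker f → coker (f ≫ g) → coker g → 0` for a monomorphism `g`. -/
theorem shortExact_comp {A B E : C} (f : A ⟶ B) (g : B ⟶ E) [Mono g] :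
    (kernelCokernelCompSequence.snakeInput f g).L₃.ShortExact := by
  let I := kernelCokernelCompSequence.snakeInput f g
  have h0 : I.L₂'.f = 0 := by
    have hz : IsZero I.L₀.X₃ := isZero_kernel_of_mono g
    exact hz.eq_of_src _ _
  have hm : Mono I.L₃.f := I.L₂'_exact.mono_g h0
  have he : Epi I.L₃.g := by
    have h1 : (f ≫ g) ≫ 𝟙 E = f ≫ g := Category.comp_id _
    have h2 : cokernel.π (f ≫ g) ≫ cokernel.map (f ≫ g) g f (𝟙 E) h1 = 𝟙 E ≫ cokernel.π g := cokernel.π_desc _ _ _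
    rw [Category.id_comp] at h2
    have h3 : Epi (cokernel.map (f ≫ g) g f (𝟙 E) h1) := by
      have h4 : Epi (cokernel.π g) := coequalizer.π_epi
      exact epi_of_epi_fac h2
    exact h3
  exact { exact := I.L₃_exact }

end abs

variable {k : Type u} [Field k] {n : ℕ}

theorem h0_congr {F G : (CohB1.ProjSpace n k).Modules} (e : F ≅ G) (t : ℤ) : h0 k F t = h0 k G t := by
  obtain ⟨e'⟩ := tw_congr e t
  exact (hmapEquiv k (CohB1.ProjSpace n k) e' 0).finrank_eq

theorem h0_tw (F : (CohB1.ProjSpace n k).Modules) (a t : ℤ) : h0 k (tw F a) t = h0 k F (a + t) := by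
  obtain ⟨e'⟩ := tw_tw F a t
  exact (hmapEquiv k (CohB1.ProjSpace n k) e' 0).finrank_eq

instance mono_twm {F G : (CohB1.ProjSpace n k).Modules} (φ : F ⟶ G) [Mono φ] (t : ℤ) : Mono (twm φ t) :=
  (shortExact_twist k n (shortExact_cokernel φ) t).mono_f

theorem h0_le_of_mono {F G : (CohB1.ProjSpace n k).Modules} (φ : F ⟶ G) [Mono φ] (hG : Coh.IsCoh G) (t : ℤ) :
    h0 k F t ≤ h0 k G t :=
  K847.CurveVan.finrank_H0_le_of_mono k (twm φ t) (isCoh_tw hG t)

theorem h0_le_add (S : ShortComplex (CohB1.ProjSpace n k).Modules) (hS : S.ShortExact) (h1 : Coh.IsCoh S.X₁)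
    (h2 : Coh.IsCoh S.X₂) (h3 : Coh.IsCoh S.X₃) (t : ℤ) : h0 k S.X₂ t ≤ h0 k S.X₁ t + h0 k S.X₃ t := by
  have hSt := shortExact_twist k n hS t
  have f1 : Module.Finite k (Coh.HH (CohB1.ProjSpace n k) (tw S.X₁ t) 0) := S0002.result k _ _ (isCoh_tw h1 t) 0
  have f2 : Module.Finite k (Coh.HH (CohB1.ProjSpace n k) (tw S.X₂ t) 0) := S0002.result k _ _ (isCoh_tw h2 t) 0
  have f3 : Module.Finite k (Coh.HH (CohB1.ProjSpace n k) (tw S.X₃ t) 0) := S0002.result k _ _ (isCoh_tw h3 t) 0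
  exact finrank_le_of_exact (HHmap k (twm S.f t) 0) (HHmap k (twm S.g t) 0) (FormalB.HHLes.exact_map_map k hSt 0)

theorem h0_isZero {F : (CohB1.ProjSpace n k).Modules} (hF : IsZero F) (t : ℤ) : h0 k F t = 0 := by
  have hz : IsZero (tw F t) := (DCoh.tensorRightMod (O k n t)).map_isZero hF
  have h1 : h0 k F t ≤ 0 := by
    have hS : Subsingleton (Coh.HH (CohB1.ProjSpace n k) (tw F t) 0) := by
      refine ⟨fun x y => ?_⟩
      have key : ∀ x : Coh.HH (CohB1.ProjSpace n k) (tw F t) 0, x = 0 := by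
        intro x
        have h2 := congrFun (congrArg DFunLike.coe (HHmap_id (A := k) (M := tw F t) 0)) x
        have h3 : HHmap k (𝟙 (tw F t)) 0 x = x := h2
        rw [← h3, hz.eq_of_src (𝟙 (tw F t)) 0]
        exact congrFun (congrArg DFunLike.coe (FormalB.HHLes.HHmap_zero (A := k) 0)) x
      rw [key x, key y]
    exact (Module.finrank_zero_of_subsingleton).le
  omega

section chain

/-- `0 → S j / S (j + 1) → E / S (j + 1) → E / S j → 0`. -/
theorem shortExact_step {C : Type*} [Category C] [Abelian C] {E : C} {A B : Subobject E} (h : A ≤ B) :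
    ∃ (i : cokernel (Subobject.ofLE A B h) ⟶ cokernel A.arrow) (p : cokernel A.arrow ⟶ cokernel B.arrow)
      (w : i ≫ p = 0), (ShortComplex.mk i p w).ShortExact := by
  have e : Subobject.ofLE A B h ≫ B.arrow = A.arrow := Subobject.ofLE_arrow _
  have h1 := shortExact_comp (Subobject.ofLE A B h) B.arrow
  generalize B.arrow = b at *
  generalize A.arrow = a at *
  subst e
  exact ⟨_, _, _, h1⟩

end chain

/-- The summation. -/
theorem sum_bound (w δ : ℕ → ℤ → ℕ) (σ : ℚ) (c g : ℕ) (h0 : ∀ t, w 0 t = 0) (N : ℕ)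
    (h1 : ∀ i, i < N → ∀ t, w (i + 1) t ≤ δ i t + w i t)
    (h2 : ∀ i, i < N → ∀ t : ℤ, (δ i t : ℚ) ≤ σ * (((t - i + c + ((g + 1 : ℕ) : ℤ)).toNat.choose (g + 1) : ℕ) : ℚ))
    (i : ℕ) (hi : i ≤ N) (t : ℤ) :
    (w i t : ℚ) ≤ σ * (((t + c + ((g + 2 : ℕ) : ℤ)).toNat.choose (g + 2) : ℕ) : ℚ) -
      σ * (((t - i + c + ((g + 2 : ℕ) : ℤ)).toNat.choose (g + 2) : ℕ) : ℚ) := by
  induction i with
  | zero =>
    have e : t - ((0 : ℕ) : ℤ) = t := by simp
    rw [h0 t, Nat.cast_zero, e, sub_self]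
  | succ i ih =>
    have h3 := ih (by omega)
    have h4 : ((w (i + 1) t : ℕ) : ℚ) ≤ δ i t + w i t := by exact_mod_cast h1 i (by omega) t
    have h5 := h2 i (by omega) t
    have h6 : (((t - i + c + ((g + 2 : ℕ) : ℤ)).toNat.choose (g + 2) : ℕ) : ℚ) =
        (((t - i + c + ((g + 1 : ℕ) : ℤ)).toNat.choose (g + 1) : ℕ) : ℚ) +
        (((t - ((i + 1 : ℕ) : ℤ) + c + ((g + 2 : ℕ) : ℤ)).toNat.choose (g + 2) : ℕ) : ℚ) := by
      rw [← Nat.cast_add]
      congr 1
      have e1 : t - ((i + 1 : ℕ) : ℤ) + c + ((g + 2 : ℕ) : ℤ) = t - i + c + ((g + 1 : ℕ) : ℤ) := by push_cast; ring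
      rw [e1]
      rcases lt_or_ge (t - i + c + ((g + 1 : ℕ) : ℤ)) 0 with hneg | hnn
      · have e2 : (t - i + c + ((g + 2 : ℕ) : ℤ)).toNat = 0 := by push_cast at hneg ⊢; omega
        have e3 : (t - i + c + ((g + 1 : ℕ) : ℤ)).toNat = 0 := by omega
        rw [e2, e3]
        simp
      · have e2 : (t - i + c + ((g + 2 : ℕ) : ℤ)).toNat = (t - i + c + ((g + 1 : ℕ) : ℤ)).toNat + 1 := by
          push_cast at hnn ⊢; omega
        rw [e2, Nat.choose_succ_succ]
    have h7 : σ * (((t - i + c + ((g + 2 : ℕ) : ℤ)).toNat.choose (g + 2) : ℕ) : ℚ) =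
        σ * (((t - i + c + ((g + 1 : ℕ) : ℤ)).toNat.choose (g + 1) : ℕ) : ℚ) +
        σ * (((t - ((i + 1 : ℕ) : ℤ) + c + ((g + 2 : ℕ) : ℤ)).toNat.choose (g + 2) : ℕ) : ℚ) := by
      rw [h6, mul_add]
    linarith

/-- **Node Filt**. -/
theorem main : StmtFilt.{u} := by
  intro k _ _ n g c₁ N σ hσ E hE S hS hS0 hcoh hμ
  have hpc : ∀ j, Coh.IsCoh (pc S hS j) := fun j => isCoh_cokernel' k _ (hcoh (j + 1)) (hcoh j)
  have hF : ∀ j, Coh.IsCoh (cokernel (S j).arrow) := fun j => isCoh_cokernel' k _ (hcoh j) hE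
  -- the embeddings
  have hκ : ∀ d i : ℕ, i + d = N → ∃ κ : tw (pc S hS i) i ⟶ tw (pc S hS N) N, Mono κ := by
    intro d
    induction d with
    | zero =>
      intro i hi
      obtain rfl : i = N := hi
      exact ⟨𝟙 _, inferInstance⟩
    | succ d ih =>
      intro i hi
      obtain ⟨κ, hκ⟩ := ih (i + 1) (by omega)
      obtain ⟨μ, hμi⟩ := hμ i (by omega)
      obtain ⟨e⟩ := tw_tw (pc S hS (i + 1)) 1 i
      have e1 : (1 : ℤ) + i = ((i + 1 : ℕ) : ℤ) := by push_cast; ring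
      rw [e1] at e
      exact ⟨twm μ i ≫ e.hom ≫ κ, inferInstance⟩
  -- the quotient by `S 0`
  have hz : IsZero (cokernel (S 0).arrow) := by
    have : IsIso (S 0).arrow := by rw [hS0]; infer_instance
    exact isZero_cokernel_of_epi _
  refine ⟨?_, fun hb m => ?_⟩
  · obtain ⟨κ, hκ'⟩ := hκ N 0 (by omega)
    obtain ⟨i, p, w, hT⟩ := shortExact_step (hS 0)
    have hi : IsIso i := by
      have hm := hT.mono_f
      have he : Epi i := hT.exact.epi_f (hz.eq_of_tgt _ _)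
      exact isIso_of_mono_of_epi i
    obtain ⟨e⟩ := tw_zero (pc S hS 0)
    exact ⟨inv i ≫ e.inv ≫ κ, inferInstance⟩
  · have hδ : ∀ i, i < N + 1 → ∀ t : ℤ, (h0 k (pc S hS i) t : ℚ) ≤
        σ * (((t - i + c₁ + ((g + 1 : ℕ) : ℤ)).toNat.choose (g + 1) : ℕ) : ℚ) := by
      intro i hi t
      obtain ⟨κ, hκ'⟩ := hκ (N - i) i (by omega)
      have h1 := h0_le_of_mono κ (isCoh_tw (hpc N) N) (t - i)
      rw [h0_tw (pc S hS i) i (t - i), add_sub_cancel] at h1
      exact (Nat.cast_le.mpr h1).trans (hb (t - i))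
    have key := sum_bound (fun i t => h0 k (cokernel (S i).arrow) t) (fun i t => h0 k (pc S hS i) t) σ c₁ g
      (fun t => h0_isZero hz t) (N + 1) (fun i _ t => by
        obtain ⟨j, p, w, hT⟩ := shortExact_step (hS i)
        exact h0_le_add _ hT (hpc i) (hF (i + 1)) (hF i) t) hδ (N + 1) le_rfl m
    have h9 : 0 ≤ σ * (((m - ((N + 1 : ℕ) : ℤ) + c₁ + ((g + 2 : ℕ) : ℤ)).toNat.choose (g + 2) : ℕ) : ℚ) := by
      positivity
    exact key.trans (sub_le_self _ h9)

end K627.NodeFilt
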